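import Groth.Agent.PicPurely.Range
import Groth.Agent.S10963
import Groth.Agent.S10964
import Groth.Agent.GrpScheme.PowPullback
import Groth.Agent.PicLaw.Calc
import Mathlib.Data.Int.GCD

/-! # Invertible modules on a purely inseparable base change, up to `p`-powers -/

set_option autoImplicit false
set_option linter.style.haveILetI false
set_option backward.isDefEq.respectTransparency false
set_option backward.isDefEq.respectTransparency.types false

universe u

open CategoryTheory CategoryTheory.Limits AlgebraicGeometry Opposite TopologicalSpace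

noncomputable section

namespace Groth.Agent.PicPurely

open Groth.Agent.QCoh Groth.Agent.Props.GenLocus Groth.Agent.Props.GenTensor

attribute [local instance] PicLaw.law

variable {X' X : Scheme.{u}} {π : X' ⟶ X} {p : ℕ}

theorem exists_unit_range (hπ : PowRange π p) {V : X.Opens} (hV : IsCompact (V : Set X))
    {a : Γ(X', π ⁻¹ᵁ V)} (ha : IsUnit a) :
    ∃ e : ℕ, ∀ e' ≥ e, ∃ b : (Γ(X, V))ˣ, π.app V (b : Γ(X, V)) = a ^ p ^ e' := by
  obtain ⟨a', ha'⟩ := ha.exists_right_inv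
  obtain ⟨e₁, he₁⟩ := hπ.pow_compact V hV a
  obtain ⟨e₂, he₂⟩ := hπ.pow_compact V hV a'
  refine ⟨max e₁ e₂, fun e' he' => ?_⟩
  obtain ⟨b, hb⟩ := mem_range_mono (π.app V).hom ((le_max_left _ _).trans he') he₁
  obtain ⟨b', hb'⟩ := mem_range_mono (π.app V).hom ((le_max_right _ _).trans he') he₂
  have h1 : b * b' = 1 := hπ.inj V <| by
    rw [map_one, map_mul, show π.app V b = _ from hb, show π.app V b' = _ from hb', ← mul_pow, ha', one_pow]
  exact ⟨(IsUnit.of_mul_eq_one b' h1).unit, hb⟩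

theorem exists_frames {Z : Scheme.{u}} [CompactSpace Z] (f : Z ⟶ X) (hf : Function.Surjective f)
    (hind : Topology.IsInducing f) {L : Z.Modules} (hL : PicF.IsInvertible L) :
    ∃ (ι : Type u) (_ : Finite ι) (W : ι → X.Opens) (e : ∀ i, Γ(L, f ⁻¹ᵁ W i)),
      iSup W = ⊤ ∧ (∀ i, IsAffineOpen (W i)) ∧ ∀ i, IsGen L (f ⁻¹ᵁ W i) (e i) := by
  have hpt : ∀ z : Z, ∃ (V : X.Opens) (e : Γ(L, f ⁻¹ᵁ V)),
      IsAffineOpen V ∧ f z ∈ V ∧ IsGen L (f ⁻¹ᵁ V) e := fun z => by
    obtain ⟨U, e, hzU, he⟩ := exists_isGen hL z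
    obtain ⟨O, hO, hOU⟩ := hind.isOpen_iff.1 U.2
    have hzO : f z ∈ O := by
      have : z ∈ f ⁻¹' O := hOU ▸ hzU
      exact this
    obtain ⟨_, ⟨V, hV, rfl⟩, hxV, hVO⟩ := X.isBasis_affineOpens.exists_subset_of_mem_open hzO hO
    have hle : f ⁻¹ᵁ V ≤ U := fun y hy => by
      have : y ∈ f ⁻¹' O := hVO hy
      rwa [hOU] at this
    exact ⟨V, res L hle e, hV, hxV, he.restrict hle⟩
  choose V e hV hzV he using hpt
  obtain ⟨t, ht⟩ := (isCompact_univ (X := Z)).elim_finite_subcover (fun z => f ⁻¹' (V z : Set X))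
    (fun z => (V z).2.preimage f.continuous) (fun z _ => Set.mem_iUnion.2 ⟨z, hzV z⟩)
  refine ⟨(t : Set Z), t.finite_toSet.to_subtype, fun i => V i.1, fun i => e i.1, ?_,
    fun i => hV _, fun i => he _⟩
  refine top_unique fun x _ => ?_
  obtain ⟨z, rfl⟩ := hf x
  obtain ⟨i, hi, hzi⟩ := Set.mem_iUnion₂.1 (ht (Set.mem_univ z))
  exact Opens.mem_iSup.2 ⟨⟨i, hi⟩, hzi⟩

theorem isCompact_inf [QuasiSeparatedSpace X] {V W : X.Opens} (hV : IsAffineOpen V) (hW : IsAffineOpen W) :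
    IsCompact ((V ⊓ W : X.Opens) : Set X) :=
  QuasiSeparatedSpace.inter_isCompact _ _ V.2 hV.isCompact W.2 hW.isCompact

/-- A `p`-power of every invertible class upstairs descends. -/
theorem exists_descent [CompactSpace X] [QuasiSeparatedSpace X] [CompactSpace X'] (hπ : PowRange π p)
    (hs : Function.Surjective π) (d : PicLoc.PicSet X') :
    ∃ (e : ℕ) (c : PicLoc.PicSet X), PicLaw.pl π c = d ^ p ^ e := by
  classical
  obtain ⟨L, hL, rfl⟩ := PicLaw.exists_cls_eq d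
  obtain ⟨ι, hι, W, g, hcov, hW, hg⟩ := exists_frames π hs hπ.inducing hL
  haveI := Fintype.ofFinite ι
  have ha : ∀ i j : ι, ∃ a : Γ(X', π ⁻¹ᵁ (W i ⊓ W j)), IsUnit a ∧
      res L (π.preimage_mono inf_le_left) (g i) = a • res L (π.preimage_mono inf_le_right) (g j) := fun i j => by
    have h1 := (hg i).restrict (π.preimage_mono (inf_le_left : W i ⊓ W j ≤ W i))
    have h2 := (hg j).restrict (π.preimage_mono (inf_le_right : W i ⊓ W j ≤ W j))
    obtain ⟨a, ha, -⟩ := h2.exists_eq le_rfl (res L (π.preimage_mono inf_le_left) (g i))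
    obtain ⟨b, hb, -⟩ := h1.exists_eq le_rfl (res L (π.preimage_mono inf_le_right) (g j))
    rw [res_self] at ha hb
    refine ⟨a, IsUnit.of_mul_eq_one b (h1.injective le_rfl ?_), ha⟩
    rw [res_self, mul_smul, one_smul, ← hb]
    exact ha.symm
  choose a hau ha using ha
  have he : ∀ ij : ι × ι, ∃ e : ℕ, ∀ e' ≥ e, ∃ b : (Γ(X, W ij.1 ⊓ W ij.2))ˣ,
      π.app _ (b : Γ(X, W ij.1 ⊓ W ij.2)) = a ij.1 ij.2 ^ p ^ e' := fun ij =>
    exists_unit_range hπ (isCompact_inf (hW _) (hW _)) (hau _ _)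
  choose e he using he
  let E := Finset.univ.sup e
  choose b hb using fun i j : ι => he (i, j) E (Finset.le_sup (f := e) (Finset.mem_univ _))
  have hrel : ∀ i j : ι, res (CohB1.tensorPow L (p ^ E)) (π.preimage_mono inf_le_left) (pw L (g i) (p ^ E)) =
      π.app (W i ⊓ W j) (b i j : Γ(X, W i ⊓ W j)) •
        res (CohB1.tensorPow L (p ^ E)) (π.preimage_mono inf_le_right) (pw L (g j) (p ^ E)) := fun i j => by
    rw [res_pw, res_pw, ha i j, pw_smul, hb]
  have hrel' : ∀ (i j : ι) {T : X.Opens} (h : T ≤ W i ⊓ W j),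
      res (CohB1.tensorPow L (p ^ E)) (π.preimage_mono (h.trans inf_le_left)) (pw L (g i) (p ^ E)) =
      π.app T (rres h (b i j : Γ(X, W i ⊓ W j))) •
        res (CohB1.tensorPow L (p ^ E)) (π.preimage_mono (h.trans inf_le_right)) (pw L (g j) (p ^ E)) := fun i j T h => by
    have h1 := congrArg (res (CohB1.tensorPow L (p ^ E)) (π.preimage_mono h)) (hrel i j)
    rw [res_res, res_smul, res_res] at h1
    rw [Props.GenPull.app_rres π h]
    exact h1
  obtain ⟨M, s, hM, hs', hsrel⟩ := Groth.Agent.S10963.result X W hcov b (fun i j k => hπ.inj _ (by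
    refine (isGen_pw (hg k) (p ^ E)).injective (π.preimage_mono (inf_le_right : W i ⊓ W j ⊓ W k ≤ W k)) ?_
    show π.app _ (rres _ _) • _ = π.app _ (rres _ _ * rres _ _) • _
    rw [map_mul, mul_smul, ← hrel' j k, ← hrel' i j, ← hrel' i k]))
  obtain ⟨hP, hPc⟩ := GrpScheme.PowPullback.cls_tensorPow hL (p ^ E)
  refine ⟨E, PicGrp.cls M hM, ?_⟩
  rw [← PicLaw.cls_pullback π hM, ← hPc]
  refine (PicLaw.iso_iff _ hP).1 ((Groth.Agent.S10964.result X' (fun i => π ⁻¹ᵁ W i) ?_ _ _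
    (fun i => Props.GenPull.pb π (s i)) (fun i => pw L (g i) (p ^ E))
    (fun i V h => Props.GenPull.isGen_pb π (fun V h => hs' i V h) V h) (fun i V h => isGen_pw (hg i) _ V h)
    (fun i j => π.app (W i ⊓ W j) (b i j : Γ(X, W i ⊓ W j)))
    (fun i j => π.app (W i ⊓ W j) (b i j : Γ(X, W i ⊓ W j))) (fun i j => ?_) (fun i j => hrel i j)).2
    ⟨fun _ => 1, fun i j => ?_⟩)
  · exact top_unique fun y _ => by
      obtain ⟨i, hi⟩ := Opens.mem_iSup.1 (hcov.ge (Set.mem_univ (π y)))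
      exact Opens.mem_iSup.2 ⟨i, hi⟩
  · have h1 := congrArg (LFFrame.unitSec π M (W i ⊓ W j)) (hsrel i j)
    rw [LFFrame.unitSec_smul, LFFrame.unitSec_res, LFFrame.unitSec_res] at h1
    exact h1
  · simp only [Units.val_one, map_one, mul_one, one_mul]

/-- A class trivial upstairs is killed by a `p`-power. -/
theorem exists_pow_eq_one [CompactSpace X] (hπ : PowRange π p) (c : PicLoc.PicSet X)
    (hc : PicLaw.pl π c = 1) : ∃ e : ℕ, c ^ p ^ e = 1 := by
  classical
  obtain ⟨L, hL, rfl⟩ := PicLaw.exists_cls_eq c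
  rw [← PicLaw.cls_pullback π hL, ← PicLaw.cls_one] at hc
  obtain ⟨φ⟩ := (PicLaw.iso_iff _ _).2 hc
  obtain ⟨ι, hι, W, g₀, hcov, hW, hg₀⟩ := exists_frames (𝟙 X) (fun x => ⟨x, rfl⟩) Topology.IsInducing.id hL
  haveI := Fintype.ofFinite ι
  obtain ⟨g, hg⟩ : ∃ g : ∀ i, Γ(L, W i), ∀ i, IsGen L (W i) (g i) := ⟨g₀, hg₀⟩
  have ha : ∀ i, ∃ a : Γ(X', π ⁻¹ᵁ W i), IsUnit a ∧
      φ.hom.app (π ⁻¹ᵁ W i) (Props.GenPull.pb π (g i)) = a • (one' _ : Γ(Coh.structureModule X', π ⁻¹ᵁ W i)) :=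
    fun i => by
    have hG : IsGen (Coh.structureModule X') (π ⁻¹ᵁ W i) (φ.hom.app _ (Props.GenPull.pb π (g i))) := by
      intro V hV
      have hfun : sm (φ.hom.app _ (Props.GenPull.pb π (g i))) hV =
          φ.hom.app V ∘ sm (Props.GenPull.pb π (g i)) hV := by
        funext x
        simp only [sm, Function.comp_apply, Scheme.Modules.Hom.app_smul, ← app_res]
      rw [hfun]
      exact Function.Bijective.comp (ConcreteCategory.bijective_of_isIso (φ.hom.app V))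
        (Props.GenPull.isGen_pb π (hg i) V hV)
    obtain ⟨a, ha, -⟩ := (isGen_one _).exists_eq le_rfl (φ.hom.app _ (Props.GenPull.pb π (g i)))
    obtain ⟨b, hb, -⟩ := hG.exists_eq le_rfl (one' (π ⁻¹ᵁ W i))
    rw [res_self] at ha hb
    refine ⟨a, IsUnit.of_mul_eq_one b ((isGen_one (π ⁻¹ᵁ W i)).injective le_rfl ?_), ha⟩
    rw [res_self, one_smul, mul_comm, mul_smul, ← ha]
    exact hb.symm
  choose a hau ha using ha
  have he : ∀ i, ∃ e : ℕ, ∀ e' ≥ e, ∃ b : (Γ(X, W i))ˣ, π.app _ (b : Γ(X, W i)) = a i ^ p ^ e' := fun i =>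
    exists_unit_range hπ (hW i).isCompact (hau i)
  choose e he using he
  let E := Finset.univ.sup e
  choose b hb using fun i : ι => he i E (Finset.le_sup (f := e) (Finset.mem_univ _))
  have hη : ∀ i j : ι, ∃ η : Γ(X, W i ⊓ W j), res L (inf_le_left : W i ⊓ W j ≤ W i) (g i) =
      η • res L (inf_le_right : W i ⊓ W j ≤ W j) (g j) := fun i j => by
    obtain ⟨η, hη, -⟩ := (hg j).exists_eq (inf_le_right : W i ⊓ W j ≤ W j) (res L inf_le_left (g i))
    exact ⟨η, hη⟩
  choose η hη using hη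
  obtain ⟨hP, hPc⟩ := GrpScheme.PowPullback.cls_tensorPow hL (p ^ E)
  refine ⟨E, ?_⟩
  rw [← hPc, ← PicLaw.cls_one]
  refine (PicLaw.iso_iff hP _).1 ((Groth.Agent.S10964.result X W hcov _ _
    (fun i => pw L (g i) (p ^ E)) (fun i => (one' _ : Γ(Coh.structureModule X, W i)))
    (fun i V h => isGen_pw (hg i) _ V h) (fun i V h => isGen_one _ V h)
    (fun i j => η i j ^ p ^ E) (fun i j => 1) (fun i j => ?_) (fun i j => ?_)).2
    ⟨b, fun i j => ?_⟩)
  · show res _ inf_le_left (pw L (g i) _) = η i j ^ _ • res _ inf_le_right (pw L (g j) _)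
    rw [res_pw, res_pw, hη, pw_smul]
  · rw [one_smul]
    exact (X.presheaf.map (homOfLE _).op).hom.map_one.trans (X.presheaf.map (homOfLE _).op).hom.map_one.symm
  rw [one_mul]
  refine hπ.inj _ ?_
  show π.app _ (rres _ _) = π.app _ (rres _ _ * _)
  rw [Props.GenPull.app_rres, map_mul, Props.GenPull.app_rres, hb, hb, map_pow, map_pow, map_pow, ← mul_pow]
  congr 1
  refine (isGen_one (π ⁻¹ᵁ (W i ⊓ W j))).injective le_rfl ?_
  rw [res_self, mul_comm, mul_smul]
  have h1 := congrArg (fun z => φ.hom.app (π ⁻¹ᵁ (W i ⊓ W j)) (LFFrame.unitSec π L (W i ⊓ W j) z)) (hη i j)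
  simp only [LFFrame.unitSec_smul, LFFrame.unitSec_res, Scheme.Modules.Hom.app_smul] at h1
  rw [app_res, app_res, ha, ha, res_smul, res_smul] at h1
  have hone : ∀ {A B : X'.Opens} (h : B ≤ A), res (Coh.structureModule X') h (one' A) = one' B := fun h =>
    (X'.presheaf.map (homOfLE h).op).hom.map_one
  rw [hone, hone] at h1
  exact h1

/-- Torsion classes of order prime to `p` descend. -/
theorem exists_torsion_descent [CompactSpace X] [QuasiSeparatedSpace X] [CompactSpace X'] (hπ : PowRange π p)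
    (hs : Function.Surjective π) (hp : p.Prime) {n : ℕ} (hn : ¬ p ∣ n) (d : PicLoc.PicSet X') (hd : d ^ n = 1) :
    ∃ c : PicLoc.PicSet X, c ^ n = 1 ∧ PicLaw.pl π c = d := by
  obtain ⟨e, c₀, hc₀⟩ := exists_descent hπ hs d
  obtain ⟨e', hc'⟩ := exists_pow_eq_one hπ (c₀ ^ n) (by
    rw [map_pow, hc₀, ← pow_mul, mul_comm, pow_mul, hd, one_pow])
  by_cases h1 : n = 1
  · subst h1
    rw [pow_one] at hd
    exact ⟨1, one_pow _, by rw [map_one, hd]⟩
  have hn0 : n ≠ 0 := fun h => hn (h ▸ dvd_zero p)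
  have hn1 : 1 < n := by omega
  have hcop : Nat.Coprime (p ^ (e + e')) n := ((hp.coprime_iff_not_dvd.2 hn)).pow_left _
  obtain ⟨s, -, hs1⟩ := Nat.exists_mul_mod_eq_one_of_coprime hcop hn1
  refine ⟨c₀ ^ (p ^ e' * s), ?_, ?_⟩
  · rw [← pow_mul, show p ^ e' * s * n = n * p ^ e' * s by ring, pow_mul, pow_mul, hc', one_pow]
  · rw [map_pow, hc₀, ← pow_mul, ← mul_assoc, ← pow_add, pow_eq_pow_mod _ hd, hs1, pow_one]

end Groth.Agent.PicPurely
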