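import Groth.Agent.AlgSp.DenseFlat
import Groth.Agent.Thick.Unram
import Groth.Agent.Props.GenPull
import Mathlib.FieldTheory.PurelyInseparable.Basic
import Mathlib.AlgebraicGeometry.Morphisms.UniversallyInjective
import Mathlib.AlgebraicGeometry.Morphisms.Integral
import Mathlib.RingTheory.Spectrum.Prime.Homeomorph
import Mathlib.Algebra.CharP.Lemmas

/-! # Functions on a purely inseparable base change: a power of every function descends -/

set_option autoImplicit false
set_option backward.isDefEq.respectTransparency false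
set_option backward.isDefEq.respectTransparency.types false

universe u

open CategoryTheory CategoryTheory.Limits AlgebraicGeometry Opposite TopologicalSpace TensorProduct

noncomputable section

namespace Groth.Agent.PicPurely

open Groth.Agent.QCoh

/-- A morphism along which functions inject and a `p`-power of every function on a quasi-compact open descends. -/
structure PowRange {X' X : Scheme.{u}} (π : X' ⟶ X) (p : ℕ) : Prop where
  inj : ∀ V : X.Opens, Function.Injective (π.app V)
  pow : ∀ V : X.Opens, IsAffineOpen V → ∀ a : Γ(X', π ⁻¹ᵁ V), ∃ e : ℕ, a ^ p ^ e ∈ (π.app V).hom.range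
  inducing : Topology.IsInducing π

variable {X' X : Scheme.{u}} {π : X' ⟶ X} {p : ℕ}

theorem mem_range_mono {R S : Type*} [CommRing R] [CommRing S] (φ : R →+* S) {a : S} {e e' : ℕ}
    (h : e ≤ e') (ha : a ^ p ^ e ∈ φ.range) : a ^ p ^ e' ∈ φ.range := by
  rw [← Nat.add_sub_of_le h, pow_add, pow_mul]
  exact pow_mem ha _

theorem PowRange.pow_compact (hπ : PowRange π p) (V : X.Opens) (hV : IsCompact (V : Set X))
    (a : Γ(X', π ⁻¹ᵁ V)) : ∃ e : ℕ, a ^ p ^ e ∈ (π.app V).hom.range := by
  classical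
  have hpt : ∀ x : X, x ∈ V → ∃ W : X.Opens, IsAffineOpen W ∧ x ∈ W ∧ W ≤ V := fun x hx => by
    obtain ⟨_, ⟨W, hW, rfl⟩, hxW, hWV⟩ := X.isBasis_affineOpens.exists_subset_of_mem_open hx V.2
    exact ⟨W, hW, hxW, hWV⟩
  choose W hW hxW hWV using hpt
  obtain ⟨t, ht⟩ := hV.elim_finite_subcover (fun x : (V : Set X) => (W x.1 x.2 : Set X))
    (fun x => (W x.1 x.2).2) (fun x hx => Set.mem_iUnion.2 ⟨⟨x, hx⟩, hxW x hx⟩)
  have he : ∀ i : ↥t, ∃ e : ℕ,
      rres (π.preimage_mono (hWV i.1.1 i.1.2)) a ^ p ^ e ∈ (π.app (W i.1.1 i.1.2)).hom.range :=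
    fun i => hπ.pow _ (hW _ _) _
  choose e he using he
  let q := Finset.univ.sup e
  have hb : ∀ i : ↥t, ∃ b, π.app (W i.1.1 i.1.2) b = rres (π.preimage_mono (hWV i.1.1 i.1.2)) a ^ p ^ q :=
    fun i => mem_range_mono _ (Finset.le_sup (f := e) (Finset.mem_univ i)) (he i)
  choose b hb using hb
  let U : ↥t → X.Opens := fun i => W i.1.1 i.1.2
  have hcov : V ≤ iSup U := fun x hx => by
    obtain ⟨i, hi, hxi⟩ := Set.mem_iUnion₂.1 (ht hx)
    exact Opens.mem_iSup.2 ⟨⟨i, hi⟩, hxi⟩
  obtain ⟨c, hc, -⟩ := X.sheaf.existsUnique_gluing' U V (fun i => homOfLE (hWV i.1.1 i.1.2)) hcov b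
    (fun i j => hπ.inj _ <| by
      show π.app _ (rres _ (b i)) = π.app _ (rres _ (b j))
      rw [Props.GenPull.app_rres, Props.GenPull.app_rres, hb, hb, map_pow, map_pow, rres_rres, rres_rres])
  refine ⟨q, c, X'.sheaf.eq_of_locally_eq' (fun i => π ⁻¹ᵁ U i) (π ⁻¹ᵁ V)
    (fun i => homOfLE (π.preimage_mono (hWV i.1.1 i.1.2))) (fun x hx => ?_) _ _ fun i => ?_⟩
  · obtain ⟨i, hi⟩ := Opens.mem_iSup.1 (hcov (x := π x) hx)
    exact Opens.mem_iSup.2 ⟨i, hi⟩
  · show rres _ (π.app V c) = rres _ (a ^ p ^ q)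
    rw [← Props.GenPull.app_rres π (hWV i.1.1 i.1.2), map_pow, ← hb i]
    exact congrArg _ (hc i)

/-- The elements a `p`-power of which lies in the image form a subring, in characteristic `p`. -/
def powSubring {R S : Type*} [CommRing R] [CommRing S] (φ : R →+* S) (hp : p.Prime) (h0 : (p : S) = 0) :
    Subring S where
  carrier := {a | ∃ e : ℕ, a ^ p ^ e ∈ φ.range}
  mul_mem' := by
    rintro a b ⟨e, he⟩ ⟨e', he'⟩
    refine ⟨max e e', ?_⟩
    rw [mul_pow]
    exact mul_mem (mem_range_mono φ (le_max_left _ _) he) (mem_range_mono φ (le_max_right _ _) he')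
  one_mem' := ⟨0, by rw [one_pow]; exact one_mem _⟩
  add_mem' := by
    rintro a b ⟨e, he⟩ ⟨e', he'⟩
    refine ⟨max e e', ?_⟩
    rw [add_pow_prime_pow_eq hp, h0, zero_mul, zero_mul, zero_mul, add_zero]
    exact add_mem (mem_range_mono φ (le_max_left _ _) he) (mem_range_mono φ (le_max_right _ _) he')
  zero_mem' := ⟨0, by rw [pow_zero, pow_one]; exact zero_mem _⟩
  neg_mem' := by
    rintro a ⟨e, he⟩
    exact ⟨e, by rw [neg_pow]; exact mul_mem (pow_mem (neg_mem (one_mem _)) _) he⟩

theorem eq_top_of_isPushout {A B C P : CommRingCat.{u}} {f : A ⟶ B} {g : A ⟶ C} {inl : B ⟶ P} {inr : C ⟶ P}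
    (h : IsPushout f g inl inr) (S : Subring P) (hl : ∀ b, inl b ∈ S) (hr : ∀ c, inr c ∈ S) : S = ⊤ := by
  let l : B ⟶ CommRingCat.of S := CommRingCat.ofHom (inl.hom.codRestrict S hl)
  let r : C ⟶ CommRingCat.of S := CommRingCat.ofHom (inr.hom.codRestrict S hr)
  let ι : CommRingCat.of S ⟶ P := CommRingCat.ofHom S.subtype
  have hw : f ≫ l = g ≫ r := by
    refine CommRingCat.hom_ext (RingHom.ext fun a => Subtype.ext ?_)
    exact ConcreteCategory.congr_hom h.w a
  have h1 : h.desc l r hw ≫ ι = 𝟙 P := h.hom_ext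
    (by rw [h.inl_desc_assoc, Category.comp_id]; rfl) (by rw [h.inr_desc_assoc, Category.comp_id]; rfl)
  refine eq_top_iff.2 fun a _ => ?_
  have h2 : ((h.desc l r hw a : S) : P) = a := ConcreteCategory.congr_hom h1 a
  exact h2 ▸ (h.desc l r hw a).2

theorem universallyInjective_SpecMap (L N : Type u) [Field L] [Field N] [Algebra L N]
    [IsPurelyInseparable L N] : UniversallyInjective (Spec.map (CommRingCat.ofHom (algebraMap L N))) := by
  rw [UniversallyInjective.iff_diagonal]
  let f := Spec.map (CommRingCat.ofHom (algebraMap L N))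
  have h1 : Subsingleton (PrimeSpectrum (N ⊗[L] N)) :=
    ((PrimeSpectrum.comapEquiv (Algebra.TensorProduct.comm L N N).toRingEquiv).toEquiv.subsingleton_congr).2
      (PrimeSpectrum.isHomeomorph_comap_of_isPurelyInseparable L N N).bijective.injective.subsingleton
  have : Subsingleton ↥(Spec (CommRingCat.of (N ⊗[L] N))) := h1
  have h2 : Subsingleton ↥(pullback f f) := (pullbackSpecIso L N N).hom.homeomorph.injective.subsingleton
  exact ⟨fun y => ⟨IsLocalRing.closedPoint N, Subsingleton.elim _ _⟩⟩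

theorem flat_SpecMap (L N : Type u) [Field L] [Field N] [Algebra L N] :
    Flat (Spec.map (CommRingCat.ofHom (algebraMap L N))) :=
  (HasRingHomProperty.Spec_iff (P := @Flat)).2 (RingHom.flat_algebraMap_iff.2 inferInstance)

theorem powRange_pullback (k : Type u) [Field k] (p : ℕ) [Fact p.Prime] [CharP k p] (X : Scheme.{u})
    (f : X ⟶ Spec (CommRingCat.of k)) (k' : Type u) [Field k'] [Algebra k k'] [IsPurelyInseparable k k'] :
    PowRange (pullback.fst f (Spec.map (CommRingCat.ofHom (algebraMap k k')))) p := by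
  let φ : CommRingCat.of k ⟶ CommRingCat.of k' := CommRingCat.ofHom (algebraMap k k')
  let i := Spec.map φ
  haveI : UniversallyInjective i := universallyInjective_SpecMap k k'
  haveI : Flat i := flat_SpecMap k k'
  haveI : Surjective i := ⟨fun y =>
    ⟨IsLocalRing.closedPoint k', @Subsingleton.elim _ (inferInstanceAs (Subsingleton (PrimeSpectrum k))) _ _⟩⟩
  haveI : IsIntegralHom i := IsIntegralHom.SpecMap_iff.2
    (algebraMap_isIntegral_iff.2 inferInstance)
  haveI : UniversallyInjective (pullback.fst f i) := MorphismProperty.pullback_fst _ _ inferInstance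
  haveI : Surjective (pullback.fst f i) := MorphismProperty.pullback_fst _ _ inferInstance
  haveI : IsIntegralHom (pullback.fst f i) := MorphismProperty.pullback_fst _ _ inferInstance
  refine ⟨AlgSp.DenseFlat.app_injective _, fun W hW a => ?_,
    (Topology.IsClosedEmbedding.of_continuous_injective_isClosedMap (pullback.fst f i).continuous
      (pullback.fst f i).injective (pullback.fst f i).isClosedMap).isInducing⟩
  obtain ⟨h', hpo⟩ := Thick.Unram.isPushout_appLE (IsPullback.of_hasPullback f i)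
    (isAffineOpen_top _) hW (le_top : W ≤ f ⁻¹ᵁ ⊤)
  have hp : p.Prime := Fact.out
  have h0 : (p : Γ(pullback f i, pullback.fst f i ⁻¹ᵁ W)) = 0 := by
    rw [← map_natCast ((pullback.fst f i).app W).hom, ← map_natCast (f.appLE ⊤ W le_top).hom,
      ← map_natCast (Scheme.ΓSpecIso (CommRingCat.of k)).inv.hom, CharP.cast_eq_zero, map_zero, map_zero, map_zero]
  have htop := eq_top_of_isPushout hpo (powSubring ((pullback.fst f i).app W).hom hp h0)
    (fun b => ⟨0, by rw [pow_zero, pow_one]; exact ⟨b, rfl⟩⟩) (fun y => ?_)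
  · exact (show a ∈ powSubring ((pullback.fst f i).app W).hom hp h0 from htop ▸ Subring.mem_top a)
  obtain ⟨n, x, hx⟩ := IsPurelyInseparable.pow_mem k p ((Scheme.ΓSpecIso (CommRingCat.of k')).hom y)
  refine ⟨n, f.appLE ⊤ W le_top ((Scheme.ΓSpecIso (CommRingCat.of k)).inv x), ?_⟩
  have hnat := ConcreteCategory.congr_hom (Scheme.ΓSpecIso_inv_naturality φ) x
  have h1 : i.app ⊤ ((Scheme.ΓSpecIso (CommRingCat.of k)).inv x) = y ^ p ^ n := by
    refine hnat.symm.trans ?_
    show (Scheme.ΓSpecIso (CommRingCat.of k')).inv (algebraMap k k' x) = _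
    rw [hx, map_pow, ← CommRingCat.comp_apply, Iso.hom_inv_id]
    rfl
  refine (ConcreteCategory.congr_hom hpo.w _).trans ?_
  show ((pullback.snd f i).appLE _ _ h') (i.app ⊤ _) = _
  rw [h1, map_pow]

end Groth.Agent.PicPurely
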